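import Groth.Agent.BcQCalc.Bc0

/-!
# Horizontal composition of base change maps in degree zero
-/

set_option autoImplicit false
set_option linter.unusedSectionVars false
set_option linter.style.haveILetI false
set_option backward.isDefEq.respectTransparency false
set_option backward.isDefEq.respectTransparency.types false

universe u

open CategoryTheory CategoryTheory.Limits AlgebraicGeometry Opposite

noncomputable section

namespace Groth.Agent.BcHComp5

open EtLim8 BcQCalc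

theorem compat_pushComp {X Y Z : Scheme.{u}} (t₁ : Y ⟶ X) (t₂ : Z ⟶ Y) (K : EtCoh.Ab Z) :
    Compat (𝟙 ((EtCoh.push t₁).obj ((EtCoh.push t₂).obj K))) (𝟙 ((EtCoh.push t₂).obj K))
      ((EtCoh.pushComp t₁ t₂).hom.app K) := by
  refine Compat.mk rfl fun V s we => ?_
  rw [← Category.id_comp ((EtCoh.pushComp t₁ t₂).hom.app K), pushComp_app_res]
  rfl

variable {X S X' S' Z Z' : Scheme.{u}} (f : X ⟶ S) (g : S' ⟶ S) (f' : X' ⟶ S') (g' : X' ⟶ X)
  (w : g' ≫ f = f' ≫ g) (p : Z ⟶ X) (p' : Z' ⟶ X') (k : Z' ⟶ Z) (w₂ : k ≫ p = p' ≫ g')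
  (w₃ : k ≫ p ≫ f = (p' ≫ f') ≫ g) (F : EtCoh.Ab Z)

set_option maxHeartbeats 1000000 in
/-- Horizontal composition of base change maps in degree zero. -/
theorem baseChange0_hcomp :
    (EtCoh.pull g).map ((EtCoh.pushComp f p).hom.app F) ≫
        EtCoh.baseChange0 (p ≫ f) g (p' ≫ f') k w₃ F =
      EtCoh.baseChange0 f g f' g' w ((EtCoh.push p).obj F) ≫
        (EtCoh.push f').map (EtCoh.baseChange0 p g' p' k w₂ F) ≫
          (EtCoh.pushComp f' p').hom.app ((EtCoh.pull k).obj F) := by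
  apply ((EtCoh.pullPushAdj g).homEquiv _ _).injective
  rw [Adjunction.homEquiv_naturality_left, Adjunction.homEquiv_naturality_right]
  refine hom_ext_res fun V s => ?_
  let β := EtCoh.baseChange0 p g' p' k w₂ F
  let K := (EtCoh.pull k).obj F
  let W := (EtCoh.bc g).obj V
  let W₁ := (EtCoh.bc f').obj W
  let W' := (EtCoh.bc (p' ≫ f')).obj W
  let b := bcFst (p' ≫ f') W
  have wb : b ≫ W.hom = W'.hom ≫ p' ≫ f' := bcFst_w (p' ≫ f') W
  let c₂ : W'.left ⟶ W₁.left := pullback.lift b (W'.hom ≫ p') (by rw [wb, Category.assoc])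
  have wc₂ : c₂ ≫ W₁.hom = W'.hom ≫ p' := pullback.lift_snd _ _ _
  have hc₂ : c₂ ≫ bcFst f' W = b := pullback.lift_fst _ _ _
  let V₁ := (EtCoh.bc f).obj V
  let r₁ : W₁.left ⟶ V₁.left := pullback.lift (bcFst f' W ≫ bcFst g V) (W₁.hom ≫ g') (by
    rw [Category.assoc, bcFst_w g V]
    refine (Category.assoc _ _ _).symm.trans ((congrArg (· ≫ g) (bcFst_w f' W)).trans ?_)
    rw [Category.assoc, Category.assoc, ← w])
  have wr₁ : r₁ ≫ V₁.hom = W₁.hom ≫ g' := pullback.lift_snd _ _ _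
  have hr₁ : r₁ ≫ bcFst f V = bcFst f' W ≫ bcFst g V := pullback.lift_fst _ _ _
  let V₂ := (EtCoh.bc p).obj V₁
  let c₃ : W'.left ⟶ V₂.left := pullback.lift (c₂ ≫ r₁) (W'.hom ≫ k) (by
    rw [Category.assoc, wr₁, ← Category.assoc, wc₂, Category.assoc, Category.assoc, w₂])
  have wc₃ : c₃ ≫ V₂.hom = W'.hom ≫ k := pullback.lift_snd _ _ _
  have hc₃ : c₃ ≫ bcFst p V₁ = c₂ ≫ r₁ := pullback.lift_fst _ _ _
  let U := (EtCoh.bc (p ≫ f)).obj V
  let d : W'.left ⟶ U.left := pullback.lift (b ≫ bcFst g V) (W'.hom ≫ k) (by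
    rw [Category.assoc, bcFst_w g V]
    refine (Category.assoc _ _ _).symm.trans ((congrArg (· ≫ g) wb).trans ?_)
    rw [Category.assoc, Category.assoc]
    exact ((Category.assoc _ _ _).trans (congrArg (W'.hom ≫ ·) (w₃.trans (Category.assoc _ _ _)))).symm)
  have wd : d ≫ U.hom = W'.hom ≫ k := pullback.lift_snd _ _ _
  have hd : d ≫ bcFst (p ≫ f) V = b ≫ bcFst g V := pullback.lift_fst _ _ _
  let v : U.left ⟶ V₁.left := pullback.lift (bcFst (p ≫ f) V) (U.hom ≫ p) (by
    rw [bcFst_w (p ≫ f) V, Category.assoc])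
  have wv : v ≫ V₁.hom = U.hom ≫ p := pullback.lift_snd _ _ _
  have hv : v ≫ bcFst f V = bcFst (p ≫ f) V := pullback.lift_fst _ _ _
  rw [res_comp_left, res_comp_push_map]
  refine (res_id_bcFst (p' ≫ f') W _).symm.trans (Eq.trans ?_ (res_id_bcFst (p' ≫ f') W _))
  refine (res_baseChange0 (p ≫ f) g (p' ≫ f') k w₃ F (bcFst g V) (bcFst_w g V) b wb d wd hd _).trans ?_
  let us : F.obj.obj (op U) := res p (𝟙 ((EtCoh.push p).obj F)) v wv s
  have hus : ((EtCoh.pushComp f p).hom.app F).hom.app (op V) s = us := by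
    refine (res_bcFst ((EtCoh.pushComp f p).hom.app F) V s).symm.trans ?_
    refine ((compat_pushComp f p F) V V₁ U (bcFst f V) (bcFst_w f V) v wv (bcFst (p ≫ f) V)
      (bcFst_w (p ≫ f) V) hv s).symm.trans ?_
    exact congrArg (res p (𝟙 ((EtCoh.push p).obj F)) v wv) (res_id_bcFst f V s)
  refine (congrArg (res k ((EtCoh.pullPushAdj k).unit.app F) d wd) hus).trans ?_
  let l := liftBc p v wv
  have e3 : d ≫ l.left = c₃ := by
    refine pullback.hom_ext ?_ ?_
    · refine (Category.assoc _ _ _).trans ((congrArg (d ≫ ·) (liftBc_fst p v wv)).trans (Eq.trans ?_ hc₃.symm))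
      refine pullback.hom_ext ?_ ?_
      · exact (Category.assoc _ _ _).trans ((congrArg (d ≫ ·) hv).trans (hd.trans
          ((congrArg (· ≫ bcFst g V) hc₂.symm).trans ((Category.assoc _ _ _).trans
            ((congrArg (c₂ ≫ ·) hr₁.symm).trans (Category.assoc _ _ _).symm)))))
      · refine (Category.assoc _ _ _).trans ((congrArg (d ≫ ·) wv).trans ?_)
        refine (Category.assoc _ _ _).symm.trans ((congrArg (· ≫ p) wd).trans ?_)
        refine Eq.trans ?_ (Category.assoc _ _ _).symm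
        refine Eq.trans ?_ (congrArg (c₂ ≫ ·) wr₁).symm
        refine Eq.trans ?_ (Category.assoc _ _ _)
        refine Eq.trans ?_ (congrArg (· ≫ g') wc₂).symm
        rw [Category.assoc, Category.assoc, w₂]
    · exact (Category.assoc _ _ _).trans ((congrArg (d ≫ ·) (MorphismProperty.Over.w l)).trans (wd.trans wc₃.symm))
  have hL : res k ((EtCoh.pullPushAdj k).unit.app F) d wd us = res k ((EtCoh.pullPushAdj k).unit.app F) c₃ wc₃ s :=
    res_map_left ((EtCoh.pullPushAdj k).unit.app F) d wd l c₃ e3 wc₃ s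
  refine hL.trans ?_
  let x := res g ((EtCoh.pullPushAdj g).homEquiv _ _ (EtCoh.baseChange0 f g f' g' w ((EtCoh.push p).obj F)))
    (bcFst g V) (bcFst_w g V) s
  have hx : x = res g' ((EtCoh.pullPushAdj g').unit.app ((EtCoh.push p).obj F)) r₁ wr₁ s :=
    (res_id_bcFst f' W x).symm.trans (res_baseChange0 f g f' g' w ((EtCoh.push p).obj F) (bcFst g V) (bcFst_w g V)
      (bcFst f' W) (bcFst_w f' W) r₁ wr₁ hr₁ s)
  have hβ : (β.hom.app (op W₁)).hom x = res g' ((EtCoh.pullPushAdj g').homEquiv _ _ β) r₁ wr₁ s := by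
    rw [hx, Adjunction.homEquiv_unit]
    exact (res_comp_push_map ((EtCoh.pullPushAdj g').unit.app ((EtCoh.push p).obj F)) β r₁ wr₁ (show ((EtCoh.push p).obj F).obj.obj (op V₁) from s)).symm
  refine (res_baseChange0 p g' p' k w₂ F r₁ wr₁ c₂ wc₂ c₃ wc₃ hc₃ s).symm.trans ?_
  refine (congrArg (res p' (𝟙 ((EtCoh.push p').obj K)) c₂ wc₂) hβ).symm.trans ?_
  refine Eq.trans ?_ (res_comp_left ((EtCoh.pushComp f' p').hom.app K) (𝟙 ((EtCoh.push (p' ≫ f')).obj K)) b wb _)
  rw [Category.comp_id]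
  refine Eq.trans ?_ ((compat_pushComp f' p' K) W W₁ W' (bcFst f' W) (bcFst_w f' W) c₂ wc₂ b wb hc₂ _)
  exact congrArg (res p' (𝟙 ((EtCoh.push p').obj K)) c₂ wc₂) (res_id_bcFst f' W _).symm

end Groth.Agent.BcHComp5
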