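import Groth.Agent.BcHComp5.Bc0H
import Groth.Agent.EtBCD5.SingleQ
import Groth.Agent.EtBCD5.Pull
import Groth.Agent.S0481
import Mathlib.Algebra.Homology.DerivedCategory.ExactFunctor

/-!
# Base change morphisms of composites with exact direct images
-/

set_option autoImplicit false
set_option linter.unusedSectionVars false
set_option linter.style.haveILetI false
set_option backward.isDefEq.respectTransparency false
set_option backward.isDefEq.respectTransparency.types false

universe u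

open CategoryTheory CategoryTheory.Limits AlgebraicGeometry Opposite HomologicalComplex

attribute [local instance] HasDerivedCategory.standard
attribute [-instance] CategoryTheory.catToReflQuiver

noncomputable section

namespace Groth.Agent.BcHComp5

open EtBCD5

attribute [local instance] EtFound.pull_preservesFiniteLimits

theorem hasRpushEt {X Y : Scheme.{u}} (f : X ⟶ Y) : DCoh.HasRpushEt X f :=
  haveI : (RB X ⋙ DCoh.pushEtKh X f).IsRightDerivedFunctor
      (Functor.whiskerRight (adjQ X).unit (DCoh.pushEtKh X f) : DCoh.pushEtKh X f ⟶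
        DerivedCategory.Qh ⋙ RB X ⋙ DCoh.pushEtKh X f)
      (HomotopyCategory.quasiIso (EtCoh.Ab X) (ComplexShape.up ℤ)) :=
    TriCat.isRightDerivedFunctor_of_adjunction (adjQ X) _ _
  Functor.HasRightDerivedFunctor.mk' (RB X ⋙ DCoh.pushEtKh X f)
    (Functor.whiskerRight (adjQ X).unit (DCoh.pushEtKh X f) : DCoh.pushEtKh X f ⟶
      DerivedCategory.Qh ⋙ RB X ⋙ DCoh.pushEtKh X f)

theorem isKInjective_pushC {X Y : Scheme.{u}} (f : X ⟶ Y) (I : Cx X) [I.IsKInjective] :
    ((pushC f).obj I).IsKInjective :=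
  haveI := (EtCoh.pullPushAdj f).leftAdjoint_preservesColimits
  S0481.result (EtCoh.push f) (EtCoh.pull f) (EtCoh.pullPushAdj f) I ‹_›

/-- The composition isomorphism on complexes. -/
def pushCompC {X Y Z : Scheme.{u}} (f : X ⟶ Y) (g : Z ⟶ X) (K : Cx Z) :
    (pushC f).obj ((pushC g).obj K) ≅ (pushC (g ≫ f)).obj K :=
  HomologicalComplex.Hom.isoOfComponents (fun n => (EtCoh.pushComp f g).app (K.X n))
    (fun _ _ _ => ((EtCoh.pushComp f g).hom.naturality _).symm)

variable {X S X' S' Z Z' : Scheme.{u}} (f : X ⟶ S) (g : S' ⟶ S) (f' : X' ⟶ S') (g' : X' ⟶ X)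
  (w : g' ≫ f = f' ≫ g) (p : Z ⟶ X) (p' : Z' ⟶ X') (k : Z' ⟶ Z) (w₂ : k ≫ p = p' ≫ g')
  (w₃ : k ≫ p ≫ f = (p' ≫ f') ≫ g)

theorem bcC_hcomp (I : Cx Z) {J : Cx Z'} (t : (pullC k).obj I ⟶ J) :
    (pullC g).map (pushCompC f p I).hom ≫ bcC (p ≫ f) g (p' ≫ f') k w₃ I t =
      bcC f g f' g' w ((pushC p).obj I) (bcC p g' p' k w₂ I t) ≫ (pushCompC f' p' J).hom := by
  refine HomologicalComplex.hom_ext _ _ fun n => ?_
  show (EtCoh.pull g).map ((EtCoh.pushComp f p).hom.app (I.X n)) ≫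
      EtCoh.baseChange0 (p ≫ f) g (p' ≫ f') k w₃ (I.X n) ≫ (EtCoh.push (p' ≫ f')).map (t.f n) =
    (EtCoh.baseChange0 f g f' g' w ((EtCoh.push p).obj (I.X n)) ≫
      (EtCoh.push f').map (EtCoh.baseChange0 p g' p' k w₂ (I.X n) ≫ (EtCoh.push p').map (t.f n))) ≫
        (EtCoh.pushComp f' p').hom.app (J.X n)
  rw [← Category.assoc, baseChange0_hcomp f g f' g' w p p' k w₂ w₃ (I.X n)]
  simp only [Functor.map_comp, Category.assoc]
  refine congrArg (fun r => _ ≫ _ ≫ r) ?_
  exact ((EtCoh.pushComp f' p').hom.naturality (t.f n)).symm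

/-- The two descriptions of a composite. -/
theorem exists_arrow_iso (I : Cx Z) {J : Cx Z'} (t : (pullC k).obj I ⟶ J) (q : ℤ) :
    Nonempty (Arrow.mk (homologyMap (bcC f g f' g' w ((pushC p).obj I) (bcC p g' p' k w₂ I t)) q) ≅
      Arrow.mk (homologyMap (bcC (p ≫ f) g (p' ≫ f') k w₃ I t) q)) :=
  ⟨(HomologicalComplex.homologyFunctor _ (ComplexShape.up ℤ) q).mapArrow.mapIso
    (Arrow.isoMk (f := Arrow.mk (bcC f g f' g' w ((pushC p).obj I) (bcC p g' p' k w₂ I t)))
      (g := Arrow.mk (bcC (p ≫ f) g (p' ≫ f') k w₃ I t))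
      ((pullC g).mapIso (pushCompC f p I)) (pushCompC f' p' J) (bcC_hcomp f g f' g' w p p' k w₂ w₃ I t))⟩

theorem quasiIso_bcC_of_bc0 [PreservesFiniteColimits (EtCoh.push p')]
    (h0 : ∀ G, IsIso (EtCoh.baseChange0 p g' p' k w₂ G)) (I : Cx Z) {J : Cx Z'} (t : (pullC k).obj I ⟶ J)
    [QuasiIso t] : QuasiIso (bcC p g' p' k w₂ I t) := by
  haveI : ∀ n, IsIso (((bc0C p g' p' k w₂).app I).f n) := fun n => h0 (I.X n)
  haveI : IsIso ((bc0C p g' p' k w₂).app I) := HomologicalComplex.Hom.isIso_of_components _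
  haveI : (EtCoh.push p').IsRightAdjoint := (EtCoh.pullPushAdj p').isRightAdjoint
  unfold bcC
  infer_instance

/-- A composite with an exact direct image computes the base change of the direct image. -/
theorem bcQ_push_iff [PreservesFiniteColimits (EtCoh.push p)] [PreservesFiniteColimits (EtCoh.push p')]
    [PreservesFiniteLimits (EtCoh.pull g')] [PreservesFiniteLimits (EtCoh.pull k)]
    (h0 : ∀ G, IsIso (EtCoh.baseChange0 p g' p' k w₂ G)) (F : EtCoh.Ab Z) (q : ℕ)
    (P : MorphismProperty (EtCoh.Ab S')) [P.RespectsIso] :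
    P (EtBC.bcQ f g f' g' w q ((EtCoh.push p).obj F)) ↔ P (EtBC.bcQ (p ≫ f) g (p' ≫ f') k w₃ q F) := by
  haveI := hasRpushEt f
  haveI := hasRpushEt f'
  haveI := hasRpushEt g
  haveI := hasRpushEt (p ≫ f)
  haveI := hasRpushEt (p' ≫ f')
  haveI : (EtCoh.push p).IsRightAdjoint := (EtCoh.pullPushAdj p).isRightAdjoint
  obtain ⟨I, hI, ⟨e⟩⟩ := exists_kinj_iso (EtBC.single Z F)
  obtain ⟨J, t, hJ, ht⟩ := exists_kinj ((pullC k).obj I)
  haveI := isKInjective_pushC p I
  haveI := isKInjective_pushC p' J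
  haveI := quasiIso_bcC_of_bc0 g' p p' k w₂ h0 I t
  let e' : EtBC.single X ((EtCoh.push p).obj F) ≅ DerivedCategory.Qh.obj (qH ((pushC p).obj I)) :=
    ((EtCoh.push p).mapDerivedCategorySingleFunctor 0).symm.app F ≪≫
      (EtCoh.push p).mapDerivedCategory.mapIso (e ≪≫ (DerivedCategory.quotientCompQhIso _).app I) ≪≫
      (EtCoh.push p).mapDerivedCategoryFactors.app I ≪≫
      ((DerivedCategory.quotientCompQhIso _).app ((pushC p).obj I)).symm
  obtain ⟨a⟩ := exists_arrow_iso f g f' g' w p p' k w₂ w₃ I t (q : ℤ)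
  exact (homology_single_bcQ_iff f g f' g' w (adj₀ g) _ q P).symm.trans
    ((homology_bcMap_iff f g f' g' w (adj₀ g) ((pushC p).obj I) e' (bcC p g' p' k w₂ I t) q P).trans
      ((P.arrow_mk_iso_iff a).trans
        ((homology_bcMap_iff (p ≫ f) g (p' ≫ f') k w₃ (adj₀ g) I e t q P).symm.trans
          (homology_single_bcQ_iff (p ≫ f) g (p' ≫ f') k w₃ (adj₀ g) F q P))))

/-- A composite with a morphism with exact direct image and base change computes the direct image of base change. -/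
theorem bcQ_map_iff [PreservesFiniteColimits (EtCoh.push f')]
    [PreservesFiniteLimits (EtCoh.pull g')] [PreservesFiniteLimits (EtCoh.pull k)]
    (h0 : ∀ G, IsIso (EtCoh.baseChange0 f g f' g' w G)) (F : EtCoh.Ab Z) (q : ℕ)
    (P : MorphismProperty (EtCoh.Ab S')) [P.RespectsIso] :
    P (EtBC.bcQ (p ≫ f) g (p' ≫ f') k w₃ q F) ↔ P ((EtCoh.push f').map (EtBC.bcQ p g' p' k w₂ q F)) := by
  haveI := hasRpushEt p
  haveI := hasRpushEt p'
  haveI := hasRpushEt g
  haveI := hasRpushEt g'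
  haveI := hasRpushEt (p ≫ f)
  haveI := hasRpushEt (p' ≫ f')
  haveI : (EtCoh.push f').IsRightAdjoint := (EtCoh.pullPushAdj f').isRightAdjoint
  haveI : (EtCoh.push f').PreservesHomology := inferInstance
  obtain ⟨I, hI, ⟨e⟩⟩ := exists_kinj_iso (EtBC.single Z F)
  obtain ⟨J, t, hJ, ht⟩ := exists_kinj ((pullC k).obj I)
  let β := bcC p g' p' k w₂ I t
  obtain ⟨a⟩ := exists_arrow_iso f g f' g' w p p' k w₂ w₃ I t (q : ℤ)
  haveI : ∀ n, IsIso (((bc0C f g f' g' w).app ((pushC p).obj I)).f n) := fun n => h0 _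
  haveI : IsIso ((bc0C f g f' g' w).app ((pushC p).obj I)) := HomologicalComplex.Hom.isIso_of_components _
  let b : Arrow.mk (bcC f g f' g' w ((pushC p).obj I) β) ≅ Arrow.mk ((pushC f').map β) :=
    Arrow.isoMk (asIso ((bc0C f g f' g' w).app ((pushC p).obj I))) (Iso.refl _) (Category.comp_id _).symm
  let c : Arrow.mk (homologyMap ((pushC f').map β) (q : ℤ)) ≅ Arrow.mk ((EtCoh.push f').map (homologyMap β (q : ℤ))) :=
    Arrow.isoMk ((((pullC g').obj ((pushC p).obj I)).sc (q : ℤ)).mapHomologyIso' (EtCoh.push f'))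
      ((((pushC p').obj J).sc (q : ℤ)).mapHomologyIso' (EtCoh.push f'))
      (ShortComplex.mapHomologyIso'_hom_naturality ((HomologicalComplex.shortComplexFunctor _ _ (q : ℤ)).map β) (EtCoh.push f')).symm
  exact (homology_single_bcQ_iff (p ≫ f) g (p' ≫ f') k w₃ (adj₀ g) F q P).symm.trans
    ((homology_bcMap_iff (p ≫ f) g (p' ≫ f') k w₃ (adj₀ g) I e t q P).trans
      ((P.arrow_mk_iso_iff a).symm.trans
        ((P.arrow_mk_iso_iff ((HomologicalComplex.homologyFunctor _ (ComplexShape.up ℤ) (q : ℤ)).mapArrow.mapIso b ≪≫ c)).trans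
          ((homology_bcMap_iff p g' p' k w₂ (adj₀ g') I e t q (P.inverseImage (EtCoh.push f'))).symm.trans
            (homology_single_bcQ_iff p g' p' k w₂ (adj₀ g') F q (P.inverseImage (EtCoh.push f')))))))

end Groth.Agent.BcHComp5
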